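import Mathlib

/-!
# Dehomogenisation of a homogeneous ideal of a polynomial ring

`J` a homogeneous ideal of `S = K[X_i]`, `x = X i₀` a variable which is a non-zero-divisor modulo `J`.
A homogeneous element of `J + (x - 1)` lies in `J`; hence `J + (x - 1)` is prime (radical) when `J` is,
and `S/(J + (x-1))` is integrally closed when `S/J` is.
-/

set_option autoImplicit false

namespace Groth.Agent.Lib.Helper18.Dehom

open MvPolynomial

universe u v

variable {K : Type u} [CommRing K] {σ : Type v}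

attribute [local instance] MvPolynomial.gradedAlgebra

theorem homogeneousComponent_X_mul (i : σ) (p : MvPolynomial σ K) (k : ℕ) :
    homogeneousComponent (k + 1) (X i * p) = X i * homogeneousComponent k p := by
  classical
  ext d
  rw [coeff_homogeneousComponent, coeff_X_mul', coeff_X_mul', coeff_homogeneousComponent]
  by_cases hi : i ∈ d.support
  · have hd : d = (d - Finsupp.single i 1) + Finsupp.single i 1 := by
      ext j
      have : 1 ≤ d i := Nat.one_le_iff_ne_zero.2 (Finsupp.mem_support_iff.1 hi)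
      by_cases hj : j = i
      · subst hj; simp; omega
      · simp [Finsupp.single_apply, Ne.symm hj]
    have hdeg : d.degree = (d - Finsupp.single i 1).degree + 1 := by
      conv_lhs => rw [hd]
      rw [map_add, Finsupp.degree_single]
    rw [if_pos hi, if_pos hi, hdeg]
    simp only [add_left_inj]
  · rw [if_neg hi, if_neg hi]
    simp

theorem homogeneousComponent_zero_X_mul (i : σ) (p : MvPolynomial σ K) :
    homogeneousComponent 0 (X i * p) = 0 := by
  classical
  ext d
  rw [coeff_homogeneousComponent, coeff_X_mul', coeff_zero]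
  by_cases hd : d.degree = 0
  · rw [if_pos hd]
    have : d = 0 := (Finsupp.degree_eq_zero_iff d).1 hd
    subst this
    simp
  · rw [if_neg hd]

/-- A homogeneous element of `J + (x - 1)` lies in `J`. -/
theorem mem_of_isHomogeneous_of_mem_sup {J : Ideal (MvPolynomial σ K)}
    (hJ : J.IsHomogeneous (homogeneousSubmodule σ K)) (i₀ : σ)
    (hx : ∀ g, X i₀ * g ∈ J → g ∈ J) {u : MvPolynomial σ K} {D : ℕ} (hu : u.IsHomogeneous D)
    (hmem : u ∈ J ⊔ Ideal.span {X i₀ - 1}) : u ∈ J := by
  obtain ⟨j, hj, y, hy, rfl⟩ := Submodule.mem_sup.1 hmem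
  obtain ⟨h, rfl⟩ := Ideal.mem_span_singleton'.1 hy
  have hjk : ∀ k, homogeneousComponent k j ∈ J := fun k =>
    homogeneousComponent_mem_of_mem hJ hj k
  have hexp : j + h * (X i₀ - 1) = j + X i₀ * h - h := by ring
  -- component equations
  have h0 : homogeneousComponent 0 (j + h * (X i₀ - 1)) =
      homogeneousComponent 0 j - homogeneousComponent 0 h := by
    rw [hexp, map_sub, map_add, homogeneousComponent_zero_X_mul, add_zero]
  have hs : ∀ k, homogeneousComponent (k + 1) (j + h * (X i₀ - 1)) =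
      homogeneousComponent (k + 1) j + X i₀ * homogeneousComponent k h -
        homogeneousComponent (k + 1) h := by
    intro k
    rw [hexp, map_sub, map_add, homogeneousComponent_X_mul]
  have hcomp : ∀ k, homogeneousComponent k (j + h * (X i₀ - 1)) =
      if k = D then j + h * (X i₀ - 1) else 0 := fun k => homogeneousComponent_of_mem hu
  -- upward
  have hA : ∀ k, k < D → homogeneousComponent k h ∈ J := by
    intro k
    induction k with
    | zero =>
      intro hk
      have h1 := hcomp 0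
      rw [if_neg (by omega), h0] at h1
      rw [← sub_eq_zero.1 h1]
      exact hjk 0
    | succ k ih =>
      intro hk
      have h1 := hcomp (k + 1)
      rw [if_neg (by omega), hs] at h1
      rw [← sub_eq_zero.1 h1]
      exact J.add_mem (hjk _) (J.mul_mem_left _ (ih (by omega)))
  -- downward
  have hB : ∀ m k, D ≤ k → h.totalDegree + 1 ≤ k + m → homogeneousComponent k h ∈ J := by
    intro m
    induction m with
    | zero =>
      intro k _ hk
      rw [homogeneousComponent_eq_zero _ _ (by omega)]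
      exact J.zero_mem
    | succ m ih =>
      intro k hDk hk
      have h2 := ih (k + 1) (by omega) (by omega)
      have h1 := hcomp (k + 1)
      rw [if_neg (by omega), hs] at h1
      apply hx
      have : X i₀ * homogeneousComponent k h =
          homogeneousComponent (k + 1) h - homogeneousComponent (k + 1) j := by
        have := sub_eq_zero.1 h1
        rw [← this]; ring
      rw [this]
      exact J.sub_mem h2 (hjk _)
  have hB' : ∀ k, D ≤ k → homogeneousComponent k h ∈ J := fun k hk =>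
    hB (h.totalDegree + 1) k hk (by omega)
  have hD := hcomp D
  rw [if_pos rfl] at hD
  rw [← hD]
  rcases Nat.eq_zero_or_pos D with hD0 | hDpos
  · subst hD0
    rw [h0]
    exact J.sub_mem (hjk 0) (hB' 0 le_rfl)
  · obtain ⟨D', rfl⟩ : ∃ D', D = D' + 1 := ⟨D - 1, by omega⟩
    rw [hs]
    exact J.sub_mem (J.add_mem (hjk _) (J.mul_mem_left _ (hA D' (by omega)))) (hB' _ le_rfl)

/-- The homogenisation of degree `D` with respect to the variable `i₀`. -/
noncomputable def hom (i₀ : σ) (D : ℕ) (f : MvPolynomial σ K) : MvPolynomial σ K :=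
  ∑ k ∈ Finset.range (D + 1), homogeneousComponent k f * X i₀ ^ (D - k)

theorem hom_isHomogeneous (i₀ : σ) (D : ℕ) (f : MvPolynomial σ K) :
    (hom i₀ D f).IsHomogeneous D := by
  unfold hom
  apply IsHomogeneous.sum
  intro k hk
  have hk' : k ≤ D := by have := Finset.mem_range.1 hk; omega
  have h1 : (homogeneousComponent k f * X i₀ ^ (D - k)).IsHomogeneous (k + (D - k)) := by
    apply IsHomogeneous.mul (homogeneousComponent_isHomogeneous k f)
    have := (isHomogeneous_X K i₀).pow (D - k)
    simpa using this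
  rwa [Nat.add_sub_cancel' hk'] at h1

theorem sum_homogeneousComponent_of_le {f : MvPolynomial σ K} {D : ℕ} (h : f.totalDegree ≤ D) :
    ∑ k ∈ Finset.range (D + 1), homogeneousComponent k f = f := by
  conv_rhs => rw [← sum_homogeneousComponent f]
  symm
  apply Finset.sum_subset
  · intro k hk
    have := Finset.mem_range.1 hk
    exact Finset.mem_range.2 (by omega)
  · intro k _ hk
    apply homogeneousComponent_eq_zero
    have : ¬ k < f.totalDegree + 1 := fun h' => hk (Finset.mem_range.2 h')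
    omega

theorem hom_sub_mem (i₀ : σ) {D : ℕ} {f : MvPolynomial σ K} (h : f.totalDegree ≤ D) :
    hom i₀ D f - f ∈ Ideal.span {(X i₀ - 1 : MvPolynomial σ K)} := by
  have h1 : hom i₀ D f - f =
      ∑ k ∈ Finset.range (D + 1), homogeneousComponent k f * (X i₀ ^ (D - k) - 1) := by
    have hf := sum_homogeneousComponent_of_le h
    rw [show hom i₀ D f - f = hom i₀ D f - ∑ k ∈ Finset.range (D + 1), homogeneousComponent k f
      from by rw [hf]]
    unfold hom
    rw [← Finset.sum_sub_distrib]
    refine Finset.sum_congr rfl fun k _ => by ring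
  rw [h1]
  apply Ideal.sum_mem
  intro k _
  apply Ideal.mul_mem_left
  rw [Ideal.mem_span_singleton]
  have := sub_dvd_pow_sub_pow (X i₀ : MvPolynomial σ K) 1 (D - k)
  rwa [one_pow] at this

variable {J : Ideal (MvPolynomial σ K)}

theorem sup_ne_top (hJ : J.IsHomogeneous (homogeneousSubmodule σ K)) (i₀ : σ)
    (hx : ∀ g, X i₀ * g ∈ J → g ∈ J) (hne : J ≠ ⊤) :
    J ⊔ Ideal.span {(X i₀ - 1 : MvPolynomial σ K)} ≠ ⊤ := by
  intro h
  have h1 : (1 : MvPolynomial σ K) ∈ J ⊔ Ideal.span {(X i₀ - 1 : MvPolynomial σ K)} := by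
    rw [h]; trivial
  exact hne ((Ideal.eq_top_iff_one _).2
    (mem_of_isHomogeneous_of_mem_sup hJ i₀ hx (isHomogeneous_one σ K) h1))

theorem mem_sup_of_hom_mem (i₀ : σ) {D : ℕ} {f : MvPolynomial σ K} (h : f.totalDegree ≤ D)
    (hm : hom i₀ D f ∈ J ⊔ Ideal.span {(X i₀ - 1 : MvPolynomial σ K)}) :
    f ∈ J ⊔ Ideal.span {(X i₀ - 1 : MvPolynomial σ K)} := by
  have := Ideal.sub_mem _ hm (Ideal.mem_sup_right (hom_sub_mem (K := K) i₀ h) : _ ∈ J ⊔ _)
  simpa using this

theorem hom_mem_sup_of_mem (i₀ : σ) {D : ℕ} {f : MvPolynomial σ K} (h : f.totalDegree ≤ D)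
    (hm : f ∈ J ⊔ Ideal.span {(X i₀ - 1 : MvPolynomial σ K)}) :
    hom i₀ D f ∈ J ⊔ Ideal.span {(X i₀ - 1 : MvPolynomial σ K)} := by
  have := Ideal.add_mem _ hm (Ideal.mem_sup_right (hom_sub_mem (K := K) i₀ h) : _ ∈ J ⊔ _)
  simpa using this

/-- `J + (x - 1)` is prime when `J` is a homogeneous prime not containing `x`. -/
theorem isPrime_sup (hJ : J.IsHomogeneous (homogeneousSubmodule σ K)) (i₀ : σ) [hp : J.IsPrime]
    (hx0 : (X i₀ : MvPolynomial σ K) ∉ J) :
    (J ⊔ Ideal.span {(X i₀ - 1 : MvPolynomial σ K)}).IsPrime := by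
  have hx : ∀ g, X i₀ * g ∈ J → g ∈ J := fun g hg => (hp.mem_or_mem hg).resolve_left hx0
  refine ⟨sup_ne_top hJ i₀ hx hp.ne_top, ?_⟩
  intro f g hfg
  have hF := hom_sub_mem (K := K) i₀ (le_refl f.totalDegree)
  have hG := hom_sub_mem (K := K) i₀ (le_refl g.totalDegree)
  have h1 : hom i₀ f.totalDegree f * hom i₀ g.totalDegree g ∈
      J ⊔ Ideal.span {(X i₀ - 1 : MvPolynomial σ K)} := by
    have e : hom i₀ f.totalDegree f * hom i₀ g.totalDegree g =
        f * g + (hom i₀ f.totalDegree f * (hom i₀ g.totalDegree g - g) +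
          (hom i₀ f.totalDegree f - f) * g) := by ring
    rw [e]
    refine Ideal.add_mem _ hfg (Ideal.mem_sup_right ?_)
    exact Ideal.add_mem _ (Ideal.mul_mem_left _ _ hG) (Ideal.mul_mem_right _ _ hF)
  have h2 := mem_of_isHomogeneous_of_mem_sup hJ i₀ hx
    ((hom_isHomogeneous i₀ _ f).mul (hom_isHomogeneous i₀ _ g)) h1
  rcases hp.mem_or_mem h2 with h3 | h3
  · exact Or.inl (mem_sup_of_hom_mem i₀ le_rfl (Ideal.mem_sup_left h3))
  · exact Or.inr (mem_sup_of_hom_mem i₀ le_rfl (Ideal.mem_sup_left h3))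

/-- `J + (x - 1)` is radical when `J` is a homogeneous radical ideal modulo which `x` is regular. -/
theorem isRadical_sup (hJ : J.IsHomogeneous (homogeneousSubmodule σ K)) (i₀ : σ)
    (hx : ∀ g, X i₀ * g ∈ J → g ∈ J) (hr : J.IsRadical) :
    (J ⊔ Ideal.span {(X i₀ - 1 : MvPolynomial σ K)}).IsRadical := by
  intro f ⟨n, hn⟩
  have hF := hom_sub_mem (K := K) i₀ (le_refl f.totalDegree)
  have h1 : hom i₀ f.totalDegree f ^ n ∈ J ⊔ Ideal.span {(X i₀ - 1 : MvPolynomial σ K)} := by
    have hd : hom i₀ f.totalDegree f - f ∣ hom i₀ f.totalDegree f ^ n - f ^ n :=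
      sub_dvd_pow_sub_pow _ _ n
    obtain ⟨c, hc⟩ := hd
    have e : hom i₀ f.totalDegree f ^ n = f ^ n + (hom i₀ f.totalDegree f - f) * c := by
      rw [← hc]; ring
    rw [e]
    exact Ideal.add_mem _ hn (Ideal.mem_sup_right (Ideal.mul_mem_right _ _ hF))
  have h2 := mem_of_isHomogeneous_of_mem_sup hJ i₀ hx ((hom_isHomogeneous i₀ _ f).pow n) h1
  exact mem_sup_of_hom_mem i₀ le_rfl (Ideal.mem_sup_left (hr ⟨n, h2⟩))

/-- Homogeneous lifts of any large degree. -/
theorem exists_homogeneous_lift (i₀ : σ)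
    (a : MvPolynomial σ K ⧸ (J ⊔ Ideal.span {(X i₀ - 1 : MvPolynomial σ K)})) :
    ∃ D₀ : ℕ, ∀ D, D₀ ≤ D → ∃ f : MvPolynomial σ K, f.IsHomogeneous D ∧
      Ideal.Quotient.mk _ f = a := by
  obtain ⟨g, rfl⟩ := Ideal.Quotient.mk_surjective a
  refine ⟨g.totalDegree, fun D hD => ⟨hom i₀ D g, hom_isHomogeneous i₀ D g, ?_⟩⟩
  rw [Ideal.Quotient.eq]
  exact Ideal.mem_sup_right (hom_sub_mem i₀ hD)

end Groth.Agent.Lib.Helper18.Dehom
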