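import Mathlib
import Groth.Prelude.Def_CAlg
import Groth.Agent.Lib.helper11.CIGor
import Groth.Agent.Lib.Helper7.FibreCM
import Groth.Agent.Lib.Helper21.DepthKit12
import Groth.Agent.Lib.Helper21.DepthKit3

/-!
# The quotient of a Cohen–Macaulay ring by a regular element is Cohen–Macaulay
-/

set_option autoImplicit false

namespace Groth.Agent.Lib.Helper18.Dehom

open IsLocalRing RingTheory.Sequence Groth.Agent.Lib.Helper21.DepthKit

universe u

/-- Local case. -/
theorem isCM_local_quotient_regular {A : Type u} [CommRing A]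
    [hA : LocCoh.IsCohenMacaulayLocalRing A] (a : A) (ha : a ∈ maximalIdeal A)
    (hreg : IsSMulRegular A a) : LocCoh.IsCohenMacaulayLocalRing (A ⧸ Ideal.span {a}) := by
  have hne : Ideal.span {a} ≠ ⊤ := by
    intro h
    have : Ideal.span {a} ≤ maximalIdeal A := (Ideal.span_singleton_le_iff_mem _).2 ha
    rw [h] at this
    exact (Ideal.IsPrime.ne_top inferInstance) (top_le_iff.1 this)
  haveI : Nontrivial (A ⧸ Ideal.span {a}) := Ideal.Quotient.nontrivial_iff.mpr hne
  haveI : IsLocalRing (A ⧸ Ideal.span {a}) :=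
    IsLocalRing.of_surjective' (Ideal.Quotient.mk _) Ideal.Quotient.mk_surjective
  have hCM : LocCoh.IsCohenMacaulayModule A A := hA.supportDim_eq_depth
  have hwr : IsWeaklyRegular A [a] := by
    rw [isWeaklyRegular_cons_iff]
    exact ⟨hreg, IsWeaklyRegular.nil _ _⟩
  have h1 := isCM_quot_ofList [a] A hCM (fun r hr => by
    rw [List.mem_singleton] at hr; rw [hr]; exact ha) hwr
  have hsub : (Ideal.ofList [a] • ⊤ : Submodule A A) = Ideal.span {a} := by
    rw [Ideal.ofList_singleton]
    exact Ideal.mul_top _
  have h2 : LocCoh.IsCohenMacaulayModule A (A ⧸ Ideal.span {a}) :=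
    isCM_congr (Submodule.quotEquivOfEq _ _ hsub) h1
  refine { supportDim_eq_depth := ?_ }
  rw [← supportDim_eq_of_surjective (R := A) (S := A ⧸ Ideal.span {a}) (A ⧸ Ideal.span {a})
      Ideal.Quotient.mk_surjective,
    ← depth_eq_of_surjective (R := A) (S := A ⧸ Ideal.span {a}) (A ⧸ Ideal.span {a})
      Ideal.Quotient.mk_surjective]
  exact h2

/-- Global case. -/
theorem isCM_quotient_regular {B : Type u} [CommRing B] [hB : LocCoh.IsCohenMacaulayRing B]
    (b : B) (hreg : IsSMulRegular B b) : LocCoh.IsCohenMacaulayRing (B ⧸ Ideal.span {b}) := by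
  refine { isCohenMacaulayLocalRing_localization := fun Q hQ => ?_ }
  set q := Q.comap (Ideal.Quotient.mk (Ideal.span {b})) with hq
  haveI : q.IsPrime := Ideal.comap_isPrime _ _
  haveI hCMq : LocCoh.IsCohenMacaulayLocalRing (Localization.AtPrime q) :=
    hB.isCohenMacaulayLocalRing_localization q
  have hbq : b ∈ q := by
    rw [hq, Ideal.mem_comap]
    have : Ideal.Quotient.mk (Ideal.span {b}) b = 0 :=
      Ideal.Quotient.eq_zero_iff_mem.2 (Ideal.subset_span rfl)
    rw [this]
    exact Q.zero_mem
  have hspan : (Ideal.span {b}).map (algebraMap B (Localization.AtPrime q)) =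
      Ideal.span {algebraMap B (Localization.AtPrime q) b} := by
    rw [Ideal.map_span, Set.image_singleton]
  have hm : algebraMap B (Localization.AtPrime q) b ∈ maximalIdeal (Localization.AtPrime q) :=
    (IsLocalization.AtPrime.to_map_mem_maximal_iff _ q b).2 hbq
  have hreg' : IsSMulRegular (Localization.AtPrime q) (algebraMap B (Localization.AtPrime q) b) := by
    have h1 : b ∈ nonZeroDivisors B := by
      rw [mem_nonZeroDivisors_iff_right]
      intro x hx
      exact hreg.right_eq_zero_of_smul (by rwa [smul_eq_mul, mul_comm])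
    have h2 := IsLocalization.map_nonZeroDivisors_le q.primeCompl (Localization.AtPrime q)
      (Submonoid.mem_map_of_mem _ h1)
    intro x y hxy
    simp only [smul_eq_mul] at hxy
    have h3 : algebraMap B (Localization.AtPrime q) b * (x - y) = 0 := by
      rw [mul_sub, hxy, sub_self]
    have := (mem_nonZeroDivisors_iff_right.1 h2) (x - y) (by rwa [mul_comm])
    exact sub_eq_zero.1 this
  haveI := isCM_local_quotient_regular _ hm hreg'
  have e := (Groth.Agent.Lib.helper11.CIGor.locQuotRingEquiv (Ideal.span {b}) Q).trans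
    (Ideal.quotEquivOfEq hspan)
  exact Groth.Agent.Lib.Helper7.FibreCM.isCM_of_ringEquiv e.symm

end Groth.Agent.Lib.Helper18.Dehom
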