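import Groth.Agent.Lib.Helper18.Dehom.Basic

/-!
# Normality passes to the dehomogenisation
-/

set_option autoImplicit false

namespace Groth.Agent.Lib.Helper18.Dehom

open MvPolynomial

universe u v

/-- Clearing denominators in a monic equation. -/
theorem field_clear {L : Type*} [Field L] (u v : L) (hv : v ≠ 0) (n : ℕ) (c : ℕ → L) :
    ((u / v) ^ n + ∑ i ∈ Finset.range n, c i * (u / v) ^ i) * v ^ n =
      u ^ n + ∑ i ∈ Finset.range n, c i * u ^ i * v ^ (n - i) := by
  rw [add_mul, div_pow, div_mul_cancel₀ _ (pow_ne_zero n hv), Finset.sum_mul]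
  congr 1
  refine Finset.sum_congr rfl fun i hi => ?_
  have hi' : i ≤ n := (Finset.mem_range.1 hi).le
  have : v ^ n = v ^ i * v ^ (n - i) := by rw [← pow_add, Nat.add_sub_cancel' hi']
  rw [this, div_pow]
  field_simp

/-- In an integrally closed domain, a monic homogeneous relation between `u` and `v` forces `v ∣ u`. -/
theorem dvd_of_monic_relation {B : Type*} [CommRing B] [IsDomain B] [IsIntegrallyClosed B]
    (u v : B) (hv : v ≠ 0) (n : ℕ) (b : ℕ → B)
    (h : u ^ n + ∑ i ∈ Finset.range n, b i * u ^ i * v ^ (n - i) = 0) : v ∣ u := by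
  set L := FractionRing B
  have hv' : algebraMap B L v ≠ 0 := by
    rw [Ne, map_eq_zero_iff _ (IsFractionRing.injective B L)]; exact hv
  set a : L := algebraMap B L u / algebraMap B L v with ha
  have hint : IsIntegral B a := by
    refine ⟨Polynomial.X ^ n + ∑ i ∈ Finset.range n, Polynomial.C (b i) * Polynomial.X ^ i, ?_, ?_⟩
    · apply Polynomial.monic_X_pow_add
      refine lt_of_le_of_lt (Polynomial.degree_sum_le _ _) ?_
      rw [Finset.sup_lt_iff (by exact WithBot.bot_lt_coe n)]
      intro i hi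
      refine lt_of_le_of_lt (Polynomial.degree_C_mul_X_pow_le i (b i)) ?_
      exact_mod_cast Finset.mem_range.1 hi
    · rw [Polynomial.eval₂_add, Polynomial.eval₂_pow, Polynomial.eval₂_X,
        Polynomial.eval₂_finset_sum]
      simp only [Polynomial.eval₂_mul, Polynomial.eval₂_C, Polynomial.eval₂_pow,
        Polynomial.eval₂_X]
      have key := field_clear (algebraMap B L u) (algebraMap B L v) hv' n
        (fun i => algebraMap B L (b i))
      have h0 : algebraMap B L u ^ n + ∑ i ∈ Finset.range n,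
          algebraMap B L (b i) * algebraMap B L u ^ i * algebraMap B L v ^ (n - i) = 0 := by
        have := congrArg (algebraMap B L) h
        simpa [map_add, map_sum, map_mul, map_pow] using this
      rw [h0] at key
      exact (mul_eq_zero.1 key).resolve_right (pow_ne_zero n hv')
  obtain ⟨y, hy⟩ := (isIntegrallyClosed_iff L).1 inferInstance hint
  refine ⟨y, ?_⟩
  apply IsFractionRing.injective B L
  rw [map_mul, hy, ha, mul_div_cancel₀ _ hv']

/-- Criterion for integral closedness in terms of monic homogeneous relations. -/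
theorem isIntegrallyClosed_of_dvd {A : Type*} [CommRing A] [IsDomain A]
    (h : ∀ (u v : A), v ≠ 0 → ∀ (n : ℕ) (c : ℕ → A),
      u ^ n + ∑ i ∈ Finset.range n, c i * u ^ i * v ^ (n - i) = 0 → v ∣ u) :
    IsIntegrallyClosed A := by
  set L := FractionRing A
  rw [isIntegrallyClosed_iff L]
  intro a ha
  obtain ⟨u, v, hv, rfl⟩ := IsFractionRing.div_surjective (A := A) a
  have hv0 : v ≠ 0 := nonZeroDivisors.ne_zero hv
  have hv' : algebraMap A L v ≠ 0 := by
    rw [Ne, map_eq_zero_iff _ (IsFractionRing.injective A L)]; exact hv0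
  obtain ⟨p, hmonic, hp⟩ := ha
  have hsum := hmonic.as_sum
  rw [hsum] at hp
  rw [Polynomial.eval₂_add, Polynomial.eval₂_pow, Polynomial.eval₂_X,
    Polynomial.eval₂_finset_sum] at hp
  simp only [Polynomial.eval₂_mul, Polynomial.eval₂_C, Polynomial.eval₂_pow,
    Polynomial.eval₂_X] at hp
  have key := field_clear (algebraMap A L u) (algebraMap A L v) hv' p.natDegree
    (fun i => algebraMap A L (p.coeff i))
  rw [hp, zero_mul] at key
  have h0 : u ^ p.natDegree + ∑ i ∈ Finset.range p.natDegree,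
      p.coeff i * u ^ i * v ^ (p.natDegree - i) = 0 := by
    apply IsFractionRing.injective A L
    rw [map_zero, key]
    simp [map_add, map_sum, map_mul, map_pow]
  obtain ⟨y, hy⟩ := h u v hv0 _ _ h0
  refine ⟨y, ?_⟩
  rw [hy, map_mul, mul_div_cancel_left₀ _ hv']

variable {K : Type u} [CommRing K] {σ : Type v} {J : Ideal (MvPolynomial σ K)}

attribute [local instance] MvPolynomial.gradedAlgebra

/-- The dehomogenisation of an integrally closed graded domain is integrally closed. -/
theorem isIntegrallyClosed_dehom (hJ : J.IsHomogeneous (homogeneousSubmodule σ K)) (i₀ : σ)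
    [hp : J.IsPrime] (hx0 : (X i₀ : MvPolynomial σ K) ∉ J)
    [IsIntegrallyClosed (MvPolynomial σ K ⧸ J)]
    [IsDomain (MvPolynomial σ K ⧸ (J ⊔ Ideal.span {(X i₀ - 1 : MvPolynomial σ K)}))] :
    IsIntegrallyClosed (MvPolynomial σ K ⧸ (J ⊔ Ideal.span {(X i₀ - 1 : MvPolynomial σ K)})) := by
  set I' := J ⊔ Ideal.span {(X i₀ - 1 : MvPolynomial σ K)} with hI'
  have hx : ∀ g, X i₀ * g ∈ J → g ∈ J := fun g hg => (hp.mem_or_mem hg).resolve_left hx0
  have hx1 : Ideal.Quotient.mk I' (X i₀) = 1 := by
    rw [← sub_eq_zero, ← map_one (Ideal.Quotient.mk I'), ← map_sub, Ideal.Quotient.eq_zero_iff_mem]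
    exact Ideal.mem_sup_right (Ideal.subset_span rfl)
  apply isIntegrallyClosed_of_dvd
  intro u v hv n c hrel
  obtain ⟨Du, hDu⟩ := exists_homogeneous_lift (J := J) i₀ u
  obtain ⟨Dv, hDv⟩ := exists_homogeneous_lift (J := J) i₀ v
  choose Dc hDc using fun i => exists_homogeneous_lift (J := J) i₀ (c i)
  set D := max (max Du Dv) ((Finset.range n).sup Dc) with hD
  obtain ⟨u', hu'h, hu'⟩ := hDu D (le_trans (le_max_left _ _) (le_max_left _ _))
  obtain ⟨v', hv'h, hv'⟩ := hDv D (le_trans (le_max_right _ _) (le_max_left _ _))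
  have hc' : ∀ i, ∃ f : MvPolynomial σ K, i < n → (f.IsHomogeneous D ∧ Ideal.Quotient.mk I' f = c i) := by
    intro i
    by_cases hi : i < n
    · obtain ⟨f, hf1, hf2⟩ := hDc i D
        (le_trans (Finset.le_sup (f := Dc) (Finset.mem_range.2 hi)) (le_max_right _ _))
      exact ⟨f, fun _ => ⟨hf1, hf2⟩⟩
    · exact ⟨0, fun h => absurd h hi⟩
  choose c' hc' using hc'
  -- the homogeneous relation
  set E : MvPolynomial σ K := X i₀ ^ (n * D) * u' ^ n +
    ∑ i ∈ Finset.range n, c' i * X i₀ ^ ((n - 1) * D) * u' ^ i * v' ^ (n - i) with hE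
  have hEhom : E.IsHomogeneous (2 * n * D) := by
    rw [hE]
    apply IsHomogeneous.add
    · have h1 := ((isHomogeneous_X K i₀).pow (n * D)).mul (hu'h.pow n)
      convert h1 using 1
      ring
    · apply IsHomogeneous.sum
      intro i hi
      have hi' := Finset.mem_range.1 hi
      have h1 := ((((hc' i hi').1).mul ((isHomogeneous_X K i₀).pow ((n - 1) * D))).mul
        (hu'h.pow i)).mul (hv'h.pow (n - i))
      convert h1 using 1
      obtain ⟨n', rfl⟩ : ∃ n', n = n' + 1 := ⟨n - 1, by omega⟩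
      obtain ⟨e, he⟩ : ∃ e, n' + 1 - i = e ∧ i + e = n' + 1 := ⟨n' + 1 - i, rfl, by omega⟩
      rw [he.1]
      have : n' + 1 - 1 = n' := by omega
      rw [this]
      have h2 : n' + 1 = i + e := he.2.symm
      rw [h2]
      have : i + e - 1 = n' := by omega
      ring_nf
      nlinarith [this, h2]
  have hEmem : E ∈ I' := by
    rw [← Ideal.Quotient.eq_zero_iff_mem, hE, map_add, map_mul, map_pow, map_pow, hx1, one_pow,
      one_mul, map_sum, hu', ← hrel]
    congr 1
    refine Finset.sum_congr rfl fun i hi => ?_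
    have hi' := Finset.mem_range.1 hi
    rw [map_mul, map_mul, map_mul, map_pow, map_pow, map_pow, hx1, one_pow, mul_one, hu', hv',
      (hc' i hi').2]
  have hEJ : E ∈ J := mem_of_isHomogeneous_of_mem_sup hJ i₀ hx hEhom hEmem
  -- relation in `B`
  have hvJ : v' ∉ J := by
    intro hvJ
    apply hv
    rw [← hv', Ideal.Quotient.eq_zero_iff_mem]
    exact Ideal.mem_sup_left hvJ
  have hV : Ideal.Quotient.mk J v' ≠ 0 := by
    rwa [Ne, Ideal.Quotient.eq_zero_iff_mem]
  have hrelB : (Ideal.Quotient.mk J (X i₀ ^ D * u')) ^ n + ∑ i ∈ Finset.range n,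
      (Ideal.Quotient.mk J (c' i * X i₀ ^ ((n - i - 1) * D))) *
        (Ideal.Quotient.mk J (X i₀ ^ D * u')) ^ i * (Ideal.Quotient.mk J v') ^ (n - i) = 0 := by
    rw [← Ideal.Quotient.eq_zero_iff_mem] at hEJ
    rw [← hEJ, hE]
    simp only [← map_pow, ← map_mul, ← map_sum, ← map_add]
    congr 1
    congr 1
    · rw [mul_pow, ← pow_mul, mul_comm D n]
    · refine Finset.sum_congr rfl fun i hi => ?_
      have hi' := Finset.mem_range.1 hi
      have : (n - 1) * D = (n - i - 1) * D + D * i := by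
        obtain ⟨e, he⟩ : ∃ e, n = i + e + 1 := ⟨n - i - 1, by omega⟩
        subst he
        have h1 : i + e + 1 - 1 = i + e := by omega
        have h2 : i + e + 1 - i - 1 = e := by omega
        rw [h1, h2]; ring
      rw [this, mul_pow, pow_add, ← pow_mul]
      ring
  haveI : IsDomain (MvPolynomial σ K ⧸ J) := Ideal.Quotient.isDomain J
  obtain ⟨y, hy⟩ := dvd_of_monic_relation _ _ hV n _ hrelB
  obtain ⟨y', rfl⟩ := Ideal.Quotient.mk_surjective y
  rw [← map_mul, Ideal.Quotient.eq] at hy
  refine ⟨Ideal.Quotient.mk I' y', ?_⟩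
  have h1 : Ideal.Quotient.mk I' (X i₀ ^ D * u') = Ideal.Quotient.mk I' (v' * y') := by
    rw [Ideal.Quotient.eq]
    exact Ideal.mem_sup_left hy
  rw [map_mul, map_pow, hx1, one_pow, one_mul, hu', map_mul, hv'] at h1
  exact h1

end Groth.Agent.Lib.Helper18.Dehom
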